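import Cfsg.Agent.H0.PG2
set_option maxRecDepth 100000
set_option Elab.async false
set_option linter.unusedSectionVars false
namespace H0.ML34
open H0 BN 
noncomputable def n0 : Net := (Net.cons (nat_lit 16) (nat_lit 0x200a) (Net.cons (nat_lit 8) (nat_lit 0x2000d1) (Net.cons (nat_lit 4) (nat_lit 0xc04) (Net.cons (nat_lit 2) (nat_lit 0x301) (Net.cons (nat_lit 1) (nat_lit 0x110040) (Net.cons (nat_lit 4) (nat_lit 0xc04) (Net.cons (nat_lit 8) (nat_lit 0x200080) (Net.cons (nat_lit 16) (nat_lit 0x2002) Net.nil))))))))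
noncomputable def n1 : Net := (Net.cons (nat_lit 16) (nat_lit 0x431c) (Net.cons (nat_lit 8) (nat_lit 0x4100e4) (Net.cons (nat_lit 4) (nat_lit 0x80c) (Net.cons (nat_lit 2) (nat_lit 0x133000) (Net.cons (nat_lit 1) (nat_lit 0x1051441) (Net.cons (nat_lit 2) (nat_lit 0x20) (Net.cons (nat_lit 4) (nat_lit 0x4000c) (Net.cons (nat_lit 8) (nat_lit 0x400048) (Net.cons (nat_lit 16) (nat_lit 0x431c) Net.nil)))))))))
noncomputable def n2 : Net := (Net.cons (nat_lit 16) (nat_lit 0x431c) (Net.cons (nat_lit 8) (nat_lit 0x1f00b4) (Net.cons (nat_lit 4) (nat_lit 0x4000c00) (Net.cons (nat_lit 2) (nat_lit 0x13002030) (Net.cons (nat_lit 1) (nat_lit 0x5014045) (Net.cons (nat_lit 4) (nat_lit 0xc08) (Net.cons (nat_lit 8) (nat_lit 0x1e0018) (Net.cons (nat_lit 16) (nat_lit 0x431c) Net.nil))))))))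
noncomputable def n3 : Net := (Net.cons (nat_lit 16) (nat_lit 0x4bc) (Net.cons (nat_lit 8) (nat_lit 0x240016) (Net.cons (nat_lit 4) (nat_lit 0x4090402) (Net.cons (nat_lit 2) (nat_lit 0x20212010) (Net.cons (nat_lit 1) (nat_lit 0x40155110) (Net.cons (nat_lit 2) (nat_lit 0x20200200) (Net.cons (nat_lit 4) (nat_lit 0x4000402) (Net.cons (nat_lit 8) (nat_lit 0x24005e) (Net.cons (nat_lit 16) (nat_lit 0x4bc) Net.nil)))))))))
noncomputable def n4 : Net := (Net.cons (nat_lit 16) (nat_lit 0x4bc) (Net.cons (nat_lit 8) (nat_lit 0x24005e) (Net.cons (nat_lit 4) (nat_lit 0x4080402) (Net.cons (nat_lit 2) (nat_lit 0x20221230) (Net.cons (nat_lit 1) (nat_lit 0x40155140) (Net.cons (nat_lit 2) (nat_lit 0x20200020) (Net.cons (nat_lit 4) (nat_lit 0x4080402) (Net.cons (nat_lit 8) (nat_lit 0x240016) (Net.cons (nat_lit 16) (nat_lit 0x4bc) Net.nil)))))))))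
noncomputable def n5 : Net := (Net.cons (nat_lit 16) (nat_lit 0x270e) (Net.cons (nat_lit 8) (nat_lit 0x260098) (Net.cons (nat_lit 4) (nat_lit 0xf080e) (Net.cons (nat_lit 2) (nat_lit 0x3201010) (Net.cons (nat_lit 1) (nat_lit 0x4404004) (Net.cons (nat_lit 2) (nat_lit 0x2000002) (Net.cons (nat_lit 4) (nat_lit 0xc0006) (Net.cons (nat_lit 8) (nat_lit 0x200058) (Net.cons (nat_lit 16) (nat_lit 0x2718) Net.nil)))))))))
noncomputable def n6 : Net := (Net.cons (nat_lit 16) (nat_lit 0x18f6) (Net.cons (nat_lit 8) (nat_lit 0x8c00e4) (Net.cons (nat_lit 4) (nat_lit 0xc090002) (Net.cons (nat_lit 2) (nat_lit 0x10200130) (Net.cons (nat_lit 1) (nat_lit 0x400114) (Net.cons (nat_lit 2) (nat_lit 0x22) (Net.cons (nat_lit 4) (nat_lit 0x4080000) (Net.cons (nat_lit 8) (nat_lit 0x8400e4) (Net.cons (nat_lit 16) (nat_lit 0x18e0) Net.nil)))))))))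
noncomputable def n7 : Net := (Net.cons (nat_lit 16) (nat_lit 0x240) (Net.cons (nat_lit 8) (nat_lit 0x4200ac) (Net.cons (nat_lit 4) (nat_lit 0x400030a) (Net.cons (nat_lit 2) (nat_lit 0x2001322) (Net.cons (nat_lit 1) (nat_lit 0x4014114) (Net.cons (nat_lit 2) (nat_lit 0x2000020) (Net.cons (nat_lit 4) (nat_lit 0x4000e0a) (Net.cons (nat_lit 8) (nat_lit 0x420008) (Net.cons (nat_lit 16) (nat_lit 0x240) Net.nil)))))))))
noncomputable def n8 : Net := (Net.cons (nat_lit 8) (nat_lit 0x7c) (Net.cons (nat_lit 4) (nat_lit 0x504) (Net.cons (nat_lit 2) (nat_lit 0x220) (Net.cons (nat_lit 1) (nat_lit 0x14410) (Net.cons (nat_lit 2) (nat_lit 0x220) (Net.cons (nat_lit 4) (nat_lit 0x400) (Net.cons (nat_lit 8) (nat_lit 0x54) Net.nil)))))))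
noncomputable def n9 : Net := (Net.cons (nat_lit 16) (nat_lit 0x7b5c) (Net.cons (nat_lit 8) (nat_lit 0x640020) (Net.cons (nat_lit 4) (nat_lit 0x803040c) (Net.cons (nat_lit 2) (nat_lit 0x21200030) (Net.cons (nat_lit 1) (nat_lit 0x10414010) (Net.cons (nat_lit 2) (nat_lit 0x20202020) (Net.cons (nat_lit 4) (nat_lit 0xc02040c) (Net.cons (nat_lit 8) (nat_lit 0x6e0020) (Net.cons (nat_lit 16) (nat_lit 0x7b5c) Net.nil)))))))))
noncomputable def n10 : Net := (Net.cons (nat_lit 16) (nat_lit 0x7b5c) (Net.cons (nat_lit 8) (nat_lit 0x6e0020) (Net.cons (nat_lit 4) (nat_lit 0xc05040c) (Net.cons (nat_lit 2) (nat_lit 0x21022010) (Net.cons (nat_lit 1) (nat_lit 0x10144040) (Net.cons (nat_lit 2) (nat_lit 0x20020000) (Net.cons (nat_lit 4) (nat_lit 0x804040c) (Net.cons (nat_lit 8) (nat_lit 0x640020) (Net.cons (nat_lit 16) (nat_lit 0x7b5c) Net.nil)))))))))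
noncomputable def n11 : Net := (Net.cons (nat_lit 16) (nat_lit 0x8000) (Net.cons (nat_lit 8) (nat_lit 0x8000e0) (Net.cons (nat_lit 4) (nat_lit 0x90408) (Net.cons (nat_lit 2) (nat_lit 0x210330) (Net.cons (nat_lit 1) (nat_lit 0x115440) (Net.cons (nat_lit 2) (nat_lit 0x220000) (Net.cons (nat_lit 4) (nat_lit 0x808) (Net.cons (nat_lit 8) (nat_lit 0x8000d0) (Net.cons (nat_lit 16) (nat_lit 0x8000) Net.nil)))))))))
noncomputable def n12 : Net := (Net.cons (nat_lit 16) (nat_lit 0x8000) (Net.cons (nat_lit 8) (nat_lit 0x8000d0) (Net.cons (nat_lit 4) (nat_lit 0xc0808) (Net.cons (nat_lit 2) (nat_lit 0x120330) (Net.cons (nat_lit 1) (nat_lit 0x415110) (Net.cons (nat_lit 4) (nat_lit 0xc0408) (Net.cons (nat_lit 8) (nat_lit 0x8000e0) (Net.cons (nat_lit 16) (nat_lit 0x8000) Net.nil))))))))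
noncomputable def n13 : Net := (Net.cons (nat_lit 16) (nat_lit 0x61cb) (Net.cons (nat_lit 8) (nat_lit 0xdc0022) (Net.cons (nat_lit 4) (nat_lit 0xb040c0d) (Net.cons (nat_lit 2) (nat_lit 0x10023210) (Net.cons (nat_lit 1) (nat_lit 0x45045040) (Net.cons (nat_lit 2) (nat_lit 0x20000) (Net.cons (nat_lit 4) (nat_lit 0x2040e0c) (Net.cons (nat_lit 8) (nat_lit 0xdc0030) (Net.cons (nat_lit 16) (nat_lit 0x61dc) Net.nil)))))))))
def B : List (List ℕ) := [[0, 0], [1, 2], [2, 1], [3, 4], [4, 3], [5, 6], [6, 5], [7, 7], [8, 8], [9, 10], [10, 9], [11, 12], [12, 11], [11, 11, 11], [9, 9, 9], [7, 8, 9, 8, 12], [7, 8, 7, 8], [7, 8, 7, 8], [7, 9, 7, 9, 7, 9], [7, 9, 7, 10, 7, 9, 7, 10], [7, 10, 7, 10, 7, 10], [8, 9, 8, 9, 8, 9], [8, 9, 8, 10, 8, 9, 8, 10], [8, 10, 8, 10, 8, 10], [9, 12, 9, 12], [3, 3, 3, 3], [5, 5, 5, 5, 5], [3, 6, 4, 5, 3, 7], [3, 6, 3, 5, 3, 8], [6, 4, 6, 10], [3, 5, 3, 5, 3, 5, 3, 5, 3,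 5], [3, 5, 4, 6, 3, 5, 4, 6, 3, 5, 4, 6], [3, 6, 3, 6, 3, 6, 3, 6, 3, 6], [4, 12, 6, 12, 8, 9], [4, 10, 7, 4, 10, 7], [4, 7, 8, 4, 8, 7], [3, 6, 9, 4, 9, 8], [3, 12, 10, 4, 8, 9], [3, 7, 6, 6, 10, 7], [3, 5, 11, 6, 12, 9], [3, 3, 7, 4, 4, 8], [5, 7, 12, 4, 11, 8, 7], [1, 1, 1, 1], [2, 0, 1, 0, 2, 0, 1, 1, 0, 4], [2, 0, 2, 2, 0, 2, 0, 2, 0, 6], [0, 1, 0, 1, 0, 1, 0, 1, 0, 1, 0, 1, 0, 1], [0, 1, 0, 2, 0, 1, 0, 2, 0, 1, 0, 2, 0, 1, 0, 2, 0, 1, 0, 2], [0, 2, 0, 2, 0, 2, 0, 2, 0, 2, 0, 2, 0, 2], [1, 1, 10, 7, 9], [1, 9, 2, 7, 9], [1, 8, 2, 12, 9, 7], [0, 7, 3, 0, 7, 3], [0, 8, 0, 8, 0, 8], [0, 10, 1, 0, 8, 7, 4], [0, 8, 6, 2, 7, 5, 8], [0, 2, 5, 2, 12, 5, 4, 4], [0, 4, 12, 0, 6, 8, 6, 3]]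
def inv (x : ℕ) : ℕ := [0, 2, 1, 4, 3, 6, 5, 7, 8, 10, 9, 12, 11].getD x 0
noncomputable def nl : List Net := [n0, n1, n2, n3, n4, n5, n6, n7, n8, n9, n10, n11, n12, n13]
theorem nl_ok : allL (Net.ok (nat_lit 32)) nl = true := by decide +kernel
noncomputable def R : Rep := mkRep (nat_lit 5) (nat_lit 32) nl (by decide +kernel) nl_ok
def defs : List (List ℕ) := [[2, 0]]
theorem R_ge : ∀ x, 13 + defs.length ≤ x → R.p x = 1 := fun _ hx => mkRep_ge hx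
def ngSt : List (List (ℕ × List ℕ) × List ℕ × ℕ × ℕ) := [([(0, []), (0, [])], [0], 5, 2), ([(1, [])], [8], 3, 2), ([(2, [])], [3], 3, 4), ([(3, [])], [4], 1, 4), ([(3, [])], [7], 3, 2), ([(2, [])], [5], 4, 5), ([(6, [])], [6], 1, 5), ([(7, [])], [11], 4, 3), ([(8, [])], [12], 1, 3), ([(9, [])], [9], 2, 3), ([(10, [])], [10], 1, 3), ([(6, [])], [1], 5, 4), ([(12, [])], [2], 1, 4)]
def ngR : List (List ℕ) := ngRels inv ngSt [[13]]
def xR : List (List ℕ) := [wpow [13] 7]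
theorem c0 : relsW R 0 R.lg ((B.drop 0).take 57) = true := by decide +kernel
theorem c1 : defsChk R defs 13 = true := by decide +kernel
theorem c2 : Model.fixW R [] [[0], [1]] = true := by decide +kernel
theorem c3 : Model.growW R [[0], [1]] [0, 1, 0, 1, 0, 1, 0, 1] (Nat.pow 2 0) (ival 0 21) = true := by decide +kernel
theorem c4 : Model.fixW R [0] [[3], [5]] = true := by decide +kernel
theorem c5 : Model.growW R [[3], [5]] [0, 1, 0, 1, 0, 1] (Nat.pow 2 1) (ival 1 20) = true := by decide +kernel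
theorem c6 : Model.fixW R [1, 0] [[7], [8], [9]] = true := by decide +kernel
theorem c7 : Model.growW R [[7], [8], [9]] [0, 1, 2, 0, 1] (Nat.pow 2 2) (ival 2 16) = true := by decide +kernel
theorem c8 : Model.fixW R [2, 1, 0] [[11]] = true := by decide +kernel
theorem c9 : Model.growW R [[11]] [0, 0] (Nat.pow 2 3) (ival 3 3) = true := by decide +kernel
theorem c10 : Model.growW R [[0], [1]] [0, 1, 0, 1, 0, 1, 0, 1] (Nat.pow 2 0) (ival 0 21) = true := by decide +kernel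
theorem c11 : Model.invW R [[0], [1], [2], [3], [4], [5], [6], [7], [8], [9], [10], [11], [12]] 0 21 = true := by decide +kernel
theorem c12 : Model.fixW R [0] [[3], [5]] = true := by decide +kernel
theorem c13 : Model.growW R [[3], [5]] [0, 1, 0, 1, 0, 1] (Nat.pow 2 1) (ival 1 20) = true := by decide +kernel
theorem c14 : mapsW R [1] (Nat.pow 2 0) (Nat.pow 2 1) = true := by decide +kernel
theorem c15 : Model.growW R [[1], [3], [5]] [0, 1, 2, 1, 0, 1, 2] (Nat.pow 2 0) (ival 0 21) = true := by decide +kernel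
theorem c16 : relsW R 0 R.lg ((ngR.drop 0).take 26) = true := by decide +kernel
theorem c17 : relsW R 0 R.lg ((xR.drop 0).take 1) = true := by decide +kernel
end H0.ML34
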